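import Groth.Agent.GMod80.NoTorus
import Groth.Agent.GMod80.Alg
import Groth.Agent.FinGrp34.UnipOrbit
import Groth.Agent.Hopf34.Fin
import Groth.Prelude.Def_ComodSub

/-!
Rosenlicht: right equivariant maps from a unipotent group to an affine scheme have closed image.
-/

set_option autoImplicit false
set_option linter.style.haveILetI false
set_option linter.unusedSectionVars false

universe u

open CategoryTheory MonoidalCategory CartesianMonoidalCategory MonObj GrpObj AlgebraicGeometry
open scoped TensorProduct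
open WithConv TensorProduct

noncomputable section

namespace Groth.Agent.Ros99

variable {k : Type u} [Field k]

theorem one_mem_subcomod {H : Type u} [CommRing H] [HopfAlgebra k H] (hU : HopfRep.IsUnipotent k H) :
    ∀ W : Submodule k H, HopfRep.IsSubcomod (k := k) (A := H) W → W ≠ ⊥ → (1 : H) ∈ W := by
  intro W hW hne
  obtain ⟨w, hw, hw0⟩ := (Submodule.ne_bot_iff _).1 hne
  obtain ⟨W₀, hfin, hs, hwW, hmin⟩ := Hopf34.exists_finite_isSubcomod (k := k) (A := H) ({w} : Set H) (Set.finite_singleton w)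
  have hle : W₀ ≤ W := hmin W hW (Set.singleton_subset_iff.2 hw)
  letI := ComodSub.Comod.restr (HopfRep.Comod.regular (k := k) (A := H)) W₀ hs
  haveI : Nontrivial W₀ := ⟨⟨⟨w, hwW rfl⟩, 0, fun h => hw0 (congrArg Subtype.val h)⟩⟩
  obtain ⟨v, hv, hv0⟩ := (Submodule.ne_bot_iff _).1 (hU W₀ hfin inferInstance)
  have h1 : CoalgebraStruct.comul (R := k) (v : H) = (v : H) ⊗ₜ[k] (1 : H) := by
    have := (ComodSub.restr_coact_coe (HopfRep.Comod.regular (k := k) (A := H)) W₀ hs v).symm
    rw [show HopfRep.Comod.coact (k := k) (A := H) v = v ⊗ₜ[k] (1 : H) from hv] at this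
    exact this
  have h2 : (v : H) = CoalgebraStruct.counit (R := k) (v : H) • (1 : H) := by
    have h3 := congrArg (fun t => TensorProduct.lid k H ((CoalgebraStruct.counit (R := k) (A := H)).rTensor H t)) h1
    simp only [Coalgebra.rTensor_counit_comul, LinearMap.rTensor_tmul, TensorProduct.lid_tmul, one_smul] at h3
    exact h3
  have hc : CoalgebraStruct.counit (R := k) (v : H) ≠ 0 := fun h => hv0 (Subtype.ext (by rw [h2, h, zero_smul]; rfl))
  have hmem : CoalgebraStruct.counit (R := k) (v : H) • (1 : H) ∈ W := h2 ▸ hle v.2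
  simpa [smul_smul, inv_mul_cancel₀ hc] using W.smul_mem (CoalgebraStruct.counit (R := k) (v : H))⁻¹ hmem

variable [IsAlgClosed k]

theorem isClosed_range_of_equivariant {G Z : Over (Spec (CommRingCat.of k))} [GrpObj G] [IsAffine G.left]
    [LocallyOfFiniteType G.hom] [Smooth G.hom] [ConnectedSpace G.left] (hG : Red.HasNoSubtorus k G)
    [IsAffine Z.left] [LocallyOfFiniteType Z.hom] (ω : G ⟶ Z) (b : Z ⊗ G ⟶ Z)
    (hb : μ[G] ≫ ω = (ω ⊗ₘ 𝟙 G) ≫ b) :
    IsClosed (Set.range ω.left.base) := by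
  classical
  obtain ⟨A, _, _, ψ, hψ⟩ := GMod80.exists_coord G
  have hA : HopfRep.IsUnipotent k A := GMod80.isUnipotent_of_hasNoSubtorus ψ hG
  haveI : Algebra.FiniteType k A := GMod80.finiteType ψ
  -- coordinates of the target
  let R := Γ(Z.left, ⊤)
  let str : CommRingCat.of k ⟶ R := Spec.preimage (Z.left.isoSpec.inv ≫ Z.hom)
  letI : Algebra k R := str.hom.toAlgebra
  have hstr : Spec.map str = Z.left.isoSpec.inv ≫ Z.hom := Spec.map_preimage _
  let t : G ⟶ Z := ω
  let P₀ := GMod80.e ψ A (toConv (AlgHom.id k A))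
  let eR : R ⟶ CommRingCat.of A := Spec.preimage ((P₀ ≫ t).left ≫ Z.left.isoSpec.hom)
  have heR : Spec.map eR = (P₀ ≫ t).left ≫ Z.left.isoSpec.hom := Spec.map_preimage _
  have hcomm : str ≫ eR = CommRingCat.ofHom (algebraMap k A) := by
    apply Spec.map_injective
    rw [Spec.map_comp, hstr, heR, Category.assoc, Iso.hom_inv_id_assoc]
    exact Over.w (P₀ ≫ t)
  let et : R →ₐ[k] A := { eR.hom with commutes' := fun c => congr($(hcomm).hom c) }
  haveI : Algebra.FiniteType k R := by
    have h : LocallyOfFiniteType (Spec.map str) := by rw [hstr]; infer_instance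
    rw [HasRingHomProperty.Spec_iff (P := @LocallyOfFiniteType)] at h
    exact h
  let C : Subalgebra k A := et.range
  have hfg : C.FG := (Subalgebra.fg_iff_finiteType _).2
    (Algebra.FiniteType.of_surjective et.rangeRestrict et.rangeRestrict_surjective)
  -- the image is a right coideal
  let M : C ⊗[k] A →ₐ[k] A ⊗[k] A := Algebra.TensorProduct.map C.val (AlgHom.id k A)
  let iC : C →ₐ[k] C ⊗[k] A := Algebra.TensorProduct.includeLeft
  let iA : A →ₐ[k] C ⊗[k] A := Algebra.TensorProduct.includeRight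
  let zR : R →ₐ[k] C ⊗[k] A := iC.comp et.rangeRestrict
  have hzw : (Spec.map (CommRingCat.ofHom zR.toRingHom) ≫ Z.left.isoSpec.inv) ≫ Z.hom =
      (VecGrp.pt k (C ⊗[k] A)).hom := by
    rw [Category.assoc, ← hstr, ← Spec.map_comp]
    congr 1
    ext c
    exact zR.commutes c
  let z : VecGrp.pt k (C ⊗[k] A) ⟶ Z :=
    Over.homMk (Spec.map (CommRingCat.ofHom zR.toRingHom) ≫ Z.left.isoSpec.inv) hzw
  let y := lift z (GMod80.e ψ (C ⊗[k] A) (toConv iA)) ≫ b
  let θ : R ⟶ CommRingCat.of (C ⊗[k] A) := Spec.preimage (y.left ≫ Z.left.isoSpec.hom)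
  let l : WithConv (A →ₐ[k] A ⊗[k] A) := toConv Algebra.TensorProduct.includeLeft
  let r : WithConv (A →ₐ[k] A ⊗[k] A) := toConv Algebra.TensorProduct.includeRight
  have e1 : VecGrp.ptMap M ≫ z = GMod80.e ψ _ l ≫ t := by
    have e0 : GMod80.e ψ _ l = VecGrp.ptMap (Algebra.TensorProduct.includeLeft : A →ₐ[k] A ⊗[k] A) ≫ P₀ := by
      rw [GMod80.e_natural]; rfl
    rw [e0, Category.assoc]
    apply Over.OverMorphism.ext
    show Spec.map (CommRingCat.ofHom M.toRingHom) ≫ Spec.map (CommRingCat.ofHom zR.toRingHom) ≫ Z.left.isoSpec.inv =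
      Spec.map (CommRingCat.ofHom (Algebra.TensorProduct.includeLeft : A →ₐ[k] A ⊗[k] A).toRingHom) ≫ (P₀ ≫ t).left
    rw [show (P₀ ≫ t).left = Spec.map eR ≫ Z.left.isoSpec.inv by simp [heR], ← Spec.map_comp_assoc, ← Spec.map_comp_assoc]
    congr 2
  have e2 : VecGrp.ptMap M ≫ GMod80.e ψ (C ⊗[k] A) (toConv iA) = GMod80.e ψ _ r := by
    rw [GMod80.e_natural]
    congr 2
  have e3 : VecGrp.ptMap M ≫ y = GMod80.e ψ _ (toConv (Bialgebra.comulAlgHom k A)) ≫ t := by
    rw [GMod80.comulAlgHom_eq_lr, map_mul]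
    show _ = (lift (GMod80.e ψ _ l) (GMod80.e ψ _ r) ≫ μ[G]) ≫ ω
    rw [Category.assoc, hb, lift_map_assoc, Category.comp_id, ← e1, ← e2, ← comp_lift, Category.assoc]
  have hΔ : ∀ x : R, Bialgebra.comulAlgHom k A (et x) = M (θ.hom x) := by
    have : eR ≫ CommRingCat.ofHom (Bialgebra.comulAlgHom k A).toRingHom =
        θ ≫ CommRingCat.ofHom M.toRingHom := by
      apply Spec.map_injective
      rw [Spec.map_comp, Spec.map_comp, heR,
        show Spec.map θ = y.left ≫ Z.left.isoSpec.hom from Spec.map_preimage _, ← Category.assoc, ← Category.assoc]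
      congr 1
      have e4 : VecGrp.ptMap (Bialgebra.comulAlgHom k A) ≫ P₀ ≫ t =
          GMod80.e ψ _ (toConv (Bialgebra.comulAlgHom k A)) ≫ t := by
        rw [← Category.assoc, GMod80.e_natural]; rfl
      exact congrArg CommaMorphism.left (e4.trans e3.symm)
    exact fun x => congr($(this).hom x)
  have hC : HopfRep.IsSubcomod (k := k) (A := A) (Subalgebra.toSubmodule C) := by
    rintro _ ⟨x, rfl⟩
    exact ⟨θ.hom x, (hΔ x).symm⟩
  -- every prime containing the kernel lifts
  have hrange : Set.range (PrimeSpectrum.comap et.toRingHom) =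
      PrimeSpectrum.zeroLocus (RingHom.ker et : Set R) := by
    refine le_antisymm ?_ fun P hP => ?_
    · rintro _ ⟨Q, rfl⟩ f hf
      show et f ∈ Q.asIdeal
      rw [RingHom.mem_ker.1 hf]; exact zero_mem _
    · have hP2 : P ∈ Set.range (PrimeSpectrum.comap et.rangeRestrict.toRingHom) := by
        rw [range_comap_of_surjective _ et.rangeRestrict.toRingHom et.rangeRestrict_surjective]
        intro x hx
        exact hP (congrArg Subtype.val (RingHom.mem_ker.1 hx))
      obtain ⟨P', rfl⟩ := hP2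
      obtain ⟨Q, rfl⟩ := FinGrp34.UnipOrbit.exists_prime_over (one_mem_subcomod hA) C hfg hC P'
      exact ⟨Q, rfl⟩
  have hcl : IsClosed (Set.range ((P₀ ≫ t).left ≫ Z.left.isoSpec.hom)) := by
    rw [← heR]
    show IsClosed (Set.range (PrimeSpectrum.comap et.toRingHom))
    rw [hrange]
    exact PrimeSpectrum.isClosed_zeroLocus _
  have hsurj : Function.Surjective P₀.left := by
    rw [show P₀.left = ψ.hom.left by rw [show P₀ = ψ.hom from GMod80.e_id ψ]]
    exact ((Over.forget _).mapIso ψ).hom.homeomorph.surjective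
  have hr : Set.range ω.left = Z.left.isoSpec.hom ⁻¹' (Set.range ((P₀ ≫ t).left ≫ Z.left.isoSpec.hom)) := by
    ext w
    constructor
    · rintro ⟨g, rfl⟩
      obtain ⟨p, rfl⟩ := hsurj g
      exact ⟨p, rfl⟩
    · rintro ⟨p, hp⟩
      exact ⟨P₀.left p, Z.left.isoSpec.hom.homeomorph.injective hp⟩
  rw [hr]
  exact hcl.preimage Z.left.isoSpec.hom.continuous

end Groth.Agent.Ros99
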